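import Groth.Agent.Lib.Helper74.CechColim.EtQcqs

/-!
# The Čech cohomology functor of a finite qcqs family commutes with filtered colimits
-/

set_option autoImplicit false
universe u
open CategoryTheory Limits Opposite AlgebraicGeometry

namespace Groth.Agent.Lib.Helper74.CechColim

section general

universe v₁ u₁ v₂ u₂ v₃ u₃ v₄ u₄

variable {C : Type u₁} [Category.{v₁} C] (J : GrothendieckTopology C)
  {A : Type u₂} {B : Type u₃} [Category.{v₂} A] [Category.{v₃} B] (F : A ⥤ B)
  [HasWeakSheafify J A] [HasWeakSheafify J B] [J.HasSheafCompose F] [J.PreservesSheafification F]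
  {Λ : Type u₄} [Category.{v₄} Λ] [HasColimitsOfShape Λ A] [PreservesColimitsOfShape Λ F]

lemma preservesColimit_sheafCompose' (D : Λ ⥤ Sheaf J A) :
    PreservesColimit D (sheafCompose J F) := by
  let K' := D ⋙ sheafToPresheaf J A
  let L := presheafToSheaf J A
  let G := sheafCompose J F
  have e : K' ⋙ L ≅ D := Functor.associator _ _ _ ≪≫
    Functor.isoWhiskerLeft D (asIso (sheafificationAdjunction J A).counit) ≪≫ D.rightUnitor
  have h0 : PreservesColimit K' ((Functor.whiskeringRight Cᵒᵖ A B).obj F ⋙ presheafToSheaf J B) :=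
    inferInstance
  have h1 : PreservesColimit K' (L ⋙ G) :=
    preservesColimit_of_natIso K' (sheafComposeNatIso J F (sheafificationAdjunction J A)
      (sheafificationAdjunction J B))
  have h2 : PreservesColimit (K' ⋙ L) G :=
    preservesColimit_of_preserves_colimit_cocone
      (isColimitOfPreserves L (colimit.isColimit K'))
      (isColimitOfPreserves (L ⋙ G) (colimit.isColimit K'))
  exact preservesColimit_of_iso_diagram G e

end general

variable {X : Scheme.{u}}

/-- Sections of abelian sheaves over a qcqs étale `X`-scheme commute with filtered colimits. -/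
theorem preservesColimitsOfShape_sections_ab (W : X.Etale) (hc : CompactSpace W.left)
    (hq : QuasiSeparatedSpace W.left) (I : Type (u + 1)) [SmallCategory I] [IsFiltered I] :
    PreservesColimitsOfShape I (sheafToPresheaf X.smallEtaleTopology AddCommGrpCat.{u + 1} ⋙
      (evaluation X.Etaleᵒᵖ AddCommGrpCat.{u + 1}).obj (op W)) := by
  haveI : PreservesColimitsOfShape I
      (sheafCompose X.smallEtaleTopology (forget AddCommGrpCat.{u + 1})) :=
    ⟨fun {D} => preservesColimit_sheafCompose' _ _ D⟩
  haveI := Groth.Agent.Lib.Helper3.EtFilteredSections.preservesColimitsOfShape_sections_of_qcqs W I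
  haveI : PreservesColimitsOfShape I
      ((sheafToPresheaf X.smallEtaleTopology AddCommGrpCat.{u + 1} ⋙
        (evaluation X.Etaleᵒᵖ AddCommGrpCat.{u + 1}).obj (op W)) ⋙
          forget AddCommGrpCat.{u + 1}) :=
    inferInstanceAs (PreservesColimitsOfShape I
      (sheafCompose X.smallEtaleTopology (forget AddCommGrpCat.{u + 1}) ⋙
        sheafToPresheaf X.smallEtaleTopology (Type (u + 1)) ⋙
          (evaluation X.Etaleᵒᵖ (Type (u + 1))).obj (op W)))
  haveI : ReflectsColimitsOfShape I (forget AddCommGrpCat.{u + 1}) :=
    reflectsColimitsOfShape_of_reflectsIsomorphisms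
  exact preservesColimitsOfShape_of_reflects_of_preserves _ (forget AddCommGrpCat.{u + 1})

/-- The Čech cohomology functor of a finite family of qcqs étale schemes over a qcqs étale scheme
`U` over a qcqs scheme `X` commutes with filtered colimits of abelian sheaves. -/
theorem preservesColimitsOfShape_cechHFunctor (X : Scheme.{u}) [CompactSpace ↥X]
    [QuasiSeparatedSpace ↥X] (U : X.Etale) [QuasiCompact U.hom] [QuasiSeparated U.hom]
    [HasFiniteProducts (Over U)] (ι : Type (u + 1)) [Finite ι] (Uf : ι → Over U)
    [∀ i, QuasiCompact (Uf i).left.hom] [∀ i, QuasiSeparated (Uf i).left.hom]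
    (q : ℕ) (I : Type (u + 1)) [SmallCategory I] [IsFiltered I] :
    PreservesColimitsOfShape I
      (sheafToPresheaf X.smallEtaleTopology AddCommGrpCat.{u + 1} ⋙
        EtCech.cechHFunctor Uf q) := by
  let R : Sheaf X.smallEtaleTopology AddCommGrpCat.{u + 1} ⥤
      ((Over U)ᵒᵖ ⥤ AddCommGrpCat.{u + 1}) :=
    sheafToPresheaf X.smallEtaleTopology AddCommGrpCat.{u + 1} ⋙
      (Functor.whiskeringLeft (Over U)ᵒᵖ X.Etaleᵒᵖ AddCommGrpCat.{u + 1}).obj (Over.forget U).op
  let G : Sheaf X.smallEtaleTopology AddCommGrpCat.{u + 1} ⥤
      CochainComplex AddCommGrpCat.{u + 1} ℕ := R ⋙ cechComplexFunctor Uf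
  have hterm : ∀ n : ℕ, PreservesColimitsOfShape I
      (G ⋙ HomologicalComplex.eval AddCommGrpCat.{u + 1} (ComplexShape.up ℕ) n) := by
    intro n
    let T : FormalCoproduct.{u + 1} (Over U) :=
      (FormalCoproduct.mk _ Uf).cech.obj (op (SimplexCategory.mk n))
    haveI : Finite T.I := inferInstanceAs (Finite (Fin (n + 1) → ι))
    have hT : PreservesColimitsOfShape I (termFunctor R T) := by
      apply preservesColimitsOfShape_termFunctor
      intro i
      have hP : qcqsOver U (T.obj i) := by
        apply (qcqsOver U).prop_product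
        intro a
        exact qcqsOver_of_hom U (Uf (i a)) inferInstance inferInstance inferInstance
      exact preservesColimitsOfShape_sections_ab (T.obj i).left
        (compactSpace_of_qcqsOver U inferInstance inferInstance hP)
        (quasiSeparatedSpace_of_qcqsOver U inferInstance inferInstance hP) I
    exact hT
  haveI : PreservesColimitsOfShape I G :=
    HomologicalComplex.preservesColimitsOfShape_of_eval G hterm
  haveI : PreservesColimitsOfShape I
      (HomologicalComplex.homologyFunctor AddCommGrpCat.{u + 1} (ComplexShape.up ℕ) q) :=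
    homologyFunctor_preservesFilteredColimits q
  exact inferInstanceAs (PreservesColimitsOfShape I
    (G ⋙ HomologicalComplex.homologyFunctor AddCommGrpCat.{u + 1} (ComplexShape.up ℕ) q))

end Groth.Agent.Lib.Helper74.CechColim
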