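import Mathlib.Algebra.Homology.HomologicalComplexLimits
import Mathlib.Algebra.Homology.ShortComplex.Ab
import Mathlib.Algebra.Homology.ShortComplex.HomologicalComplex
import Mathlib.Algebra.Category.Grp.FilteredColimits
import Mathlib.Algebra.Category.Grp.Abelian
import Mathlib.Algebra.Category.Grp.EpiMono
import Mathlib.CategoryTheory.Limits.ConcreteCategory.Basic
import Mathlib.CategoryTheory.Limits.Types.Filtered

/-!
# Homology of complexes of abelian groups commutes with filtered colimits

Port to `AddCommGrpCat` of `Groth.Agent.Lib.Helper75.HomologyFilteredColim` (which is for `ModuleCat`).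

* `ab_exists_rep`, `ab_eq_zero_stage`: element-wise description of a filtered colimit cocone in
  `AddCommGrpCat`.
* `ab_isColimitOfElementwise`: recognition of filtered colimit cocones in `AddCommGrpCat`.
* `homologyFunctor_preservesFilteredColimits`: for any complex shape, the homology functor
  `HomologicalComplex AddCommGrpCat c ⥤ AddCommGrpCat` preserves filtered colimits.
-/

set_option autoImplicit false
universe u
open CategoryTheory Limits

namespace Groth.Agent.Lib.Helper74.CechColim

section elementwise

variable {J : Type u} [SmallCategory J] [IsFiltered J] {F : J ⥤ AddCommGrpCat.{u}}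

theorem ab_exists_rep {t : Cocone F} (ht : IsColimit t) (x : t.pt) :
    ∃ (j : J) (y : F.obj j), (t.ι.app j).hom y = x :=
  Concrete.isColimit_exists_rep F ht x

theorem ab_eq_zero_stage {t : Cocone F} (ht : IsColimit t) {j : J} (y : F.obj j)
    (h : (t.ι.app j).hom y = 0) : ∃ (k : J) (f : j ⟶ k), (F.map f).hom y = 0 := by
  have h' : (t.ι.app j).hom y = (t.ι.app j).hom (0 : F.obj j) := by rw [map_zero]; exact h
  obtain ⟨k, f, g, hfg⟩ := Concrete.isColimit_exists_of_rep_eq F ht y (0 : F.obj j) h'
  refine ⟨k, f, ?_⟩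
  have : (F.map f).hom y = (F.map g).hom 0 := hfg
  rw [this, map_zero]

/-- Recognising filtered colimit cocones in `AddCommGrpCat` element-wise. -/
noncomputable def ab_isColimitOfElementwise (t : Cocone F)
    (hs : ∀ x : t.pt, ∃ (j : J) (y : F.obj j), (t.ι.app j).hom y = x)
    (hz : ∀ (j : J) (y : F.obj j), (t.ι.app j).hom y = 0 →
      ∃ (k : J) (f : j ⟶ k), (F.map f).hom y = 0) :
    IsColimit t := by
  haveI : ReflectsColimit F (forget AddCommGrpCat.{u}) :=
    reflectsColimit_of_reflectsIsomorphisms F (forget AddCommGrpCat.{u})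
  apply isColimitOfReflects (forget AddCommGrpCat.{u})
  apply Types.FilteredColimit.isColimitOf'
  · intro x
    obtain ⟨j, y, hy⟩ := hs x
    exact ⟨j, y, hy.symm⟩
  · intro i x y hxy
    have key : ∀ (x' y' : F.obj i), (t.ι.app i).hom x' = (t.ι.app i).hom y' →
        ∃ (k : J) (f : i ⟶ k), (F.map f).hom x' = (F.map f).hom y' := by
      intro x' y' hxy'
      have h0 : (t.ι.app i).hom (x' - y') = 0 := by rw [map_sub, sub_eq_zero]; exact hxy'
      obtain ⟨k, f, hf⟩ := hz i (x' - y') h0
      refine ⟨k, f, ?_⟩
      rw [map_sub, sub_eq_zero] at hf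
      exact hf
    exact key x y hxy

end elementwise

section homology

variable {ι : Type*} {c : ComplexShape ι}

theorem ab_sq_app {A B B' C : AddCommGrpCat.{u}} {f : A ⟶ B} {g : B ⟶ C} {f' : A ⟶ B'}
    {g' : B' ⟶ C} (e : f ≫ g = f' ≫ g') (x : A) : g.hom (f.hom x) = g'.hom (f'.hom x) := by
  have := congrArg (fun φ : A ⟶ C => φ.hom x) e
  exact this

theorem ab_comp_zero_app {A B C : AddCommGrpCat.{u}} {f : A ⟶ B} {g : B ⟶ C}
    (e : f ≫ g = 0) (x : A) : g.hom (f.hom x) = 0 := by
  have := congrArg (fun φ : A ⟶ C => φ.hom x) e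
  exact this

theorem ab_tri_app {A B C : AddCommGrpCat.{u}} {f : A ⟶ B} {g : B ⟶ C} {h : A ⟶ C}
    (e : f ≫ g = h) (x : A) : g.hom (f.hom x) = h.hom x := by
  have := congrArg (fun φ : A ⟶ C => φ.hom x) e
  exact this

/-- every homology class is the class of a cycle -/
theorem hc_homologyπ_surjective (D : HomologicalComplex AddCommGrpCat.{u} c) (i : ι)
    (h : D.homology i) : ∃ z : D.cycles i, (D.homologyπ i).hom z = h :=
  (AddCommGrpCat.epi_iff_surjective (D.homologyπ i)).mp inferInstance h

theorem hc_iCycles_injective (D : HomologicalComplex AddCommGrpCat.{u} c) (i : ι) :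
    Function.Injective (D.iCycles i).hom :=
  (AddCommGrpCat.mono_iff_injective (D.iCycles i)).mp inferInstance

/-- an element killed by the differential is a cycle -/
theorem hc_exists_cycle (D : HomologicalComplex AddCommGrpCat.{u} c) (i : ι) (x : D.X i)
    (hx : (D.d i (c.next i)).hom x = 0) : ∃ z : D.cycles i, (D.iCycles i).hom z = x := by
  have hex : (ShortComplex.mk (D.iCycles i) (D.d i (c.next i)) (D.iCycles_d i _)).Exact :=
    ShortComplex.exact_of_f_is_kernel _ (D.cyclesIsKernel i (c.next i) rfl)
  rw [ShortComplex.ab_exact_iff] at hex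
  exact hex x hx

/-- a cycle has zero homology class iff it is a boundary -/
theorem hc_homologyπ_eq_zero (D : HomologicalComplex AddCommGrpCat.{u} c) (i : ι)
    (z : D.cycles i) (hz : (D.homologyπ i).hom z = 0) :
    ∃ w : D.X (c.prev i), (D.toCycles (c.prev i) i).hom w = z := by
  have hex : (ShortComplex.mk (D.toCycles (c.prev i) i) (D.homologyπ i)
      (D.toCycles_comp_homologyπ _ i)).Exact :=
    ShortComplex.exact_of_g_is_cokernel _ (D.homologyIsCokernel (c.prev i) i rfl)
  rw [ShortComplex.ab_exact_iff] at hex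
  exact hex z hz

variable {J : Type u} [SmallCategory J] [IsFiltered J]

/-- The homology functor on complexes of abelian groups preserves filtered colimits. -/
theorem homologyFunctor_preservesFilteredColimits (i : ι) :
    PreservesColimitsOfShape J (HomologicalComplex.homologyFunctor AddCommGrpCat.{u} c i) := by
  constructor
  intro K
  apply preservesColimit_of_preserves_colimit_cocone (colimit.isColimit K)
  -- degreewise colimits
  have hdeg : ∀ n : ι, IsColimit ((HomologicalComplex.eval AddCommGrpCat.{u} c n).mapCocone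
      (colimit.cocone K)) := fun n => isColimitOfPreserves _ (colimit.isColimit K)
  have E1 : ∀ (n : ι) (x : (colimit K).X n), ∃ (j : J) (y : (K.obj j).X n),
      ((colimit.ι K j).f n).hom y = x := fun n x => ab_exists_rep (hdeg n) x
  have E2 : ∀ (n : ι) (j : J) (y : (K.obj j).X n), ((colimit.ι K j).f n).hom y = 0 →
      ∃ (k : J) (f : j ⟶ k), ((K.map f).f n).hom y = 0 :=
    fun n j y hy => ab_eq_zero_stage (hdeg n) y hy
  -- compatibility
  have hw : ∀ {j k : J} (f : j ⟶ k) (n : ι) (y : (K.obj j).X n),
      ((colimit.ι K k).f n).hom (((K.map f).f n).hom y) = ((colimit.ι K j).f n).hom y := by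
    intro j k f n y
    have := congrArg (fun φ : K.obj j ⟶ colimit K => (φ.f n).hom y) (colimit.w K f)
    exact this
  apply ab_isColimitOfElementwise
  · -- surjectivity
    intro h
    obtain ⟨z, rfl⟩ := hc_homologyπ_surjective (colimit K) i h
    obtain ⟨j, y, hy⟩ := E1 i (((colimit K).iCycles i).hom z)
    have h1 : ((colimit.ι K j).f (c.next i)).hom (((K.obj j).d i (c.next i)).hom y) = 0 := by
      rw [ab_sq_app ((colimit.ι K j).comm i (c.next i)).symm y, hy]
      exact ab_comp_zero_app ((colimit K).iCycles_d i (c.next i)) z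
    obtain ⟨k, f, hf⟩ := E2 (c.next i) j _ h1
    have h2 : ((K.obj k).d i (c.next i)).hom (((K.map f).f i).hom y) = 0 := by
      rw [ab_sq_app ((K.map f).comm i (c.next i)) y]
      exact hf
    obtain ⟨zk, hzk⟩ := hc_exists_cycle (K.obj k) i _ h2
    refine ⟨k, ((K.obj k).homologyπ i).hom zk, ?_⟩
    have h3 : (HomologicalComplex.cyclesMap (colimit.ι K k) i).hom zk = z := by
      apply hc_iCycles_injective (colimit K) i
      rw [ab_sq_app (HomologicalComplex.cyclesMap_i (colimit.ι K k) i) zk, hzk, hw f i y, hy]
    change (HomologicalComplex.homologyMap (colimit.ι K k) i).hom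
      (((K.obj k).homologyπ i).hom zk) = _
    rw [ab_sq_app (HomologicalComplex.homologyπ_naturality (colimit.ι K k) i) zk, h3]
  · -- zero criterion
    intro j hj hzero
    obtain ⟨zj, rfl⟩ := hc_homologyπ_surjective (K.obj j) i hj
    change (HomologicalComplex.homologyMap (colimit.ι K j) i).hom
      (((K.obj j).homologyπ i).hom zj) = 0 at hzero
    rw [ab_sq_app (HomologicalComplex.homologyπ_naturality (colimit.ι K j) i) zj] at hzero
    obtain ⟨w, hw'⟩ := hc_homologyπ_eq_zero (colimit K) i _ hzero
    obtain ⟨l, v, hv⟩ := E1 (c.prev i) w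
    -- the key identity in the colimit
    have hkey : ((colimit.ι K j).f i).hom (((K.obj j).iCycles i).hom zj) =
        ((colimit K).d (c.prev i) i).hom w := by
      rw [← ab_sq_app (HomologicalComplex.cyclesMap_i (colimit.ι K j) i) zj, ← hw']
      exact ab_tri_app ((colimit K).toCycles_i (c.prev i) i) w
    let a := IsFiltered.leftToMax j l
    let b := IsFiltered.rightToMax j l
    have hu : ((colimit.ι K (IsFiltered.max j l)).f i).hom
        (((K.map a).f i).hom (((K.obj j).iCycles i).hom zj) -
          ((K.obj (IsFiltered.max j l)).d (c.prev i) i).hom (((K.map b).f (c.prev i)).hom v)) = 0 := by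
      rw [map_sub, hw a i, hkey,
        ab_sq_app ((colimit.ι K (IsFiltered.max j l)).comm (c.prev i) i).symm, hw b (c.prev i) v, hv,
        sub_self]
    obtain ⟨n, g, hg⟩ := E2 i _ _ hu
    rw [map_sub, sub_eq_zero] at hg
    refine ⟨n, a ≫ g, ?_⟩
    change (HomologicalComplex.homologyMap (K.map (a ≫ g)) i).hom
      (((K.obj j).homologyπ i).hom zj) = 0
    rw [ab_sq_app (HomologicalComplex.homologyπ_naturality (K.map (a ≫ g)) i) zj]
    have h5 : (HomologicalComplex.cyclesMap (K.map (a ≫ g)) i).hom zj =
        ((K.obj n).toCycles (c.prev i) i).hom (((K.map (b ≫ g)).f (c.prev i)).hom v) := by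
      apply hc_iCycles_injective (K.obj n) i
      rw [ab_sq_app (HomologicalComplex.cyclesMap_i (K.map (a ≫ g)) i) zj,
        ab_tri_app ((K.obj n).toCycles_i (c.prev i) i)]
      rw [K.map_comp, K.map_comp, HomologicalComplex.comp_f, HomologicalComplex.comp_f]
      change ((K.map g).f i).hom (((K.map a).f i).hom (((K.obj j).iCycles i).hom zj)) =
        ((K.obj n).d (c.prev i) i).hom
          (((K.map g).f (c.prev i)).hom (((K.map b).f (c.prev i)).hom v))
      rw [hg, ab_sq_app ((K.map g).comm (c.prev i) i)]
    rw [h5]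
    exact ab_comp_zero_app ((K.obj n).toCycles_comp_homologyπ (c.prev i) i) _

end homology

end Groth.Agent.Lib.Helper74.CechColim
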