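import Groth.Agent.Lib.Helper74.CechColim.Terms
import Groth.Agent.Lib.Helper3.EtFilteredSections
import Groth.Prelude.Def_EtCech

/-!
# Finite products of qcqs objects over an object of the small étale site are qcqs
-/

set_option autoImplicit false
universe u
open CategoryTheory Limits Opposite AlgebraicGeometry

namespace Groth.Agent.Lib.Helper74.CechColim

section schemes

variable {A B C A' : Scheme.{u}}

lemma qc_comp (f : A ⟶ B) (g : B ⟶ C) (hf : QuasiCompact f) (hg : QuasiCompact g) :
    QuasiCompact (f ≫ g) := inferInstance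

lemma qs_comp (f : A ⟶ B) (g : B ⟶ C) (hf : QuasiSeparated f) (hg : QuasiSeparated g) :
    QuasiSeparated (f ≫ g) := inferInstance

lemma qc_of_comp (f : A ⟶ B) (g : B ⟶ C) (h : QuasiCompact (f ≫ g)) (hg : QuasiSeparated g) :
    QuasiCompact f := QuasiCompact.of_comp f g

lemma qs_of_comp (f : A ⟶ B) (g : B ⟶ C) (h : QuasiSeparated (f ≫ g)) :
    QuasiSeparated f := QuasiSeparated.of_comp f g

lemma qc_of_iso (f : A ⟶ B) (h : IsIso f) : QuasiCompact f := inferInstance

lemma qs_of_iso (f : A ⟶ B) (h : IsIso f) : QuasiSeparated f := inferInstance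

lemma qc_of_isPullback {f' : A' ⟶ A} {g' : A' ⟶ B} {f : A ⟶ C} {g : B ⟶ C}
    (sq : IsPullback f' g' f g) (hg : QuasiCompact g) : QuasiCompact f' :=
  MorphismProperty.of_isPullback (P := @QuasiCompact) sq.flip hg

lemma qs_of_isPullback {f' : A' ⟶ A} {g' : A' ⟶ B} {f : A ⟶ C} {g : B ⟶ C}
    (sq : IsPullback f' g' f g) (hg : QuasiSeparated g) : QuasiSeparated f' :=
  MorphismProperty.of_isPullback (P := @QuasiSeparated) sq.flip hg

lemma compactSpace_of_qc (f : A ⟶ B) (h : QuasiCompact f) (hB : CompactSpace B) :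
    CompactSpace A := QuasiCompact.compactSpace_of_compactSpace f

lemma qsSpace_of_qs (f : A ⟶ B) (h : QuasiSeparated f) (hB : QuasiSeparatedSpace B) :
    QuasiSeparatedSpace A := quasiSeparatedSpace_of_quasiSeparated f

end schemes

variable {X : Scheme.{u}} (U : X.Etale)

/-- the underlying scheme functor of the small étale site -/
noncomputable abbrev etToScheme (X : Scheme.{u}) : X.Etale ⥤ Scheme.{u} :=
  Scheme.Etale.forget X ⋙ Over.forget X

/-- objects of `Over U` whose structure morphism to `U` is qcqs -/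
def qcqsOver : ObjectProperty (Over U) := fun Y =>
  QuasiCompact ((etToScheme X).map Y.hom) ∧ QuasiSeparated ((etToScheme X).map Y.hom)

instance : (qcqsOver U).IsClosedUnderLimitsOfShape (Discrete.{0} PEmpty) where
  limitsOfShape_le := by
    rintro Y ⟨p⟩
    have hY : IsTerminal Y :=
      (IsLimit.equivOfNatIsoOfIso p.diag.uniqueFromEmpty _ _
        (by exact Cone.ext (Iso.refl _) (by rintro ⟨⟨⟩⟩))).1 p.isLimit
    let e : Y ≅ Over.mk (𝟙 U) := IsLimit.conePointUniqueUpToIso hY Over.mkIdTerminal
    have h1 : Y.hom = e.hom.left := by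
      have := Over.w e.hom
      simpa using this.symm
    haveI : IsIso Y.hom := by rw [h1]; infer_instance
    have : IsIso ((etToScheme X).map Y.hom) := inferInstance
    exact ⟨qc_of_iso _ this, qs_of_iso _ this⟩

instance : (qcqsOver U).IsClosedUnderBinaryProducts where
  limitsOfShape_le := by
    rintro Y ⟨p⟩
    let c : BinaryFan (p.diag.obj ⟨WalkingPair.left⟩) (p.diag.obj ⟨WalkingPair.right⟩) :=
      (Cone.postcompose (diagramIsoPair p.diag).hom).obj ⟨Y, p.π⟩
    have hc : IsLimit c := (IsLimit.postcomposeHomEquiv (diagramIsoPair p.diag) _).symm p.isLimit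
    have sq := (Over.isPullback_of_binaryFan_isLimit c hc).map (etToScheme X)
    obtain ⟨hA1, hA2⟩ := p.prop_diag_obj ⟨WalkingPair.left⟩
    obtain ⟨hB1, hB2⟩ := p.prop_diag_obj ⟨WalkingPair.right⟩
    have hfst1 : QuasiCompact ((etToScheme X).map c.fst.left) := qc_of_isPullback sq hB1
    have hfst2 : QuasiSeparated ((etToScheme X).map c.fst.left) := qs_of_isPullback sq hB2
    have hw : Y.hom = c.fst.left ≫ (p.diag.obj ⟨WalkingPair.left⟩).hom := (Over.w c.fst).symm
    have hw' : (etToScheme X).map Y.hom =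
        (etToScheme X).map c.fst.left ≫
          (etToScheme X).map (p.diag.obj ⟨WalkingPair.left⟩).hom := by
      rw [← Functor.map_comp]
      exact congrArg _ hw
    constructor
    · rw [hw']; exact qc_comp _ _ hfst1 hA1
    · rw [hw']; exact qs_comp _ _ hfst2 hA2

variable [HasFiniteProducts (Over U)]

instance : (qcqsOver U).IsClosedUnderFiniteProducts := ObjectProperty.IsClosedUnderFiniteProducts.mk'

omit [HasFiniteProducts (Over U)] in
lemma qcqsOver_of_hom (Y : Over U) (hU : QuasiSeparated U.hom) (h1 : QuasiCompact Y.left.hom)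
    (h2 : QuasiSeparated Y.left.hom) : qcqsOver U Y := by
  have hw : (etToScheme X).map Y.hom ≫ U.hom = Y.left.hom := Over.w Y.hom.hom
  constructor
  · exact qc_of_comp ((etToScheme X).map Y.hom) U.hom (by rw [hw]; exact h1) hU
  · exact qs_of_comp ((etToScheme X).map Y.hom) U.hom (by rw [hw]; exact h2)

omit [HasFiniteProducts (Over U)] in
lemma compactSpace_of_qcqsOver (hX : CompactSpace X) (hU : QuasiCompact U.hom) {Y : Over U}
    (h : qcqsOver U Y) : CompactSpace Y.left.left :=
  compactSpace_of_qc ((etToScheme X).map Y.hom ≫ U.hom) (qc_comp _ _ h.1 hU) hX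

omit [HasFiniteProducts (Over U)] in
lemma quasiSeparatedSpace_of_qcqsOver (hX : QuasiSeparatedSpace X) (hU : QuasiSeparated U.hom)
    {Y : Over U} (h : qcqsOver U Y) : QuasiSeparatedSpace Y.left.left :=
  qsSpace_of_qs ((etToScheme X).map Y.hom ≫ U.hom) (qs_comp _ _ h.2 hU) hX

end Groth.Agent.Lib.Helper74.CechColim
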