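import Groth.Agent.Lib.Helper74.CechColim.AbHomology
import Mathlib.CategoryTheory.Sites.SheafCohomology.Cech
import Mathlib.CategoryTheory.Limits.Shapes.ConcreteCategory
import Mathlib.Algebra.Category.Grp.Limits

/-!
# The terms of a Čech complex commute with filtered colimits

If `R : S ⥤ (Cᵒᵖ ⥤ Ab)` is a functor such that the evaluations at the finitely many objects of a
formal coproduct `T` preserve filtered colimits, then so does the evaluation of `evalOp` at `T`
(a finite product of these evaluations).
-/

set_option autoImplicit false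
universe w v u v' u'
open CategoryTheory Limits Opposite

namespace Groth.Agent.Lib.Helper74.CechColim

variable {C : Type u} [Category.{v} C] {S : Type u'} [Category.{v'} S]
  (R : S ⥤ (Cᵒᵖ ⥤ AddCommGrpCat.{w})) (T : FormalCoproduct.{w} C)

/-- the functor `s ↦ ∏ i, (R s)(T_i)` -/
noncomputable abbrev termFunctor : S ⥤ AddCommGrpCat.{w} :=
  R ⋙ FormalCoproduct.evalOp.{w} C AddCommGrpCat.{w} ⋙
    (evaluation (FormalCoproduct.{w} C)ᵒᵖ AddCommGrpCat.{w}).obj (op T)

/-- the functor `s ↦ (R s)(T_i)` -/
noncomputable abbrev factorFunctor (i : T.I) : S ⥤ AddCommGrpCat.{w} :=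
  R ⋙ (evaluation Cᵒᵖ AddCommGrpCat.{w}).obj (op (T.obj i))

lemma termFunctor_map_π {s s' : S} (φ : s ⟶ s') (i : T.I) :
    (termFunctor R T).map φ ≫ Pi.π (fun i : T.I => (R.obj s').obj (op (T.obj i))) i =
      Pi.π (fun i : T.I => (R.obj s).obj (op (T.obj i))) i ≫ (factorFunctor R T i).map φ := by
  dsimp [termFunctor, factorFunctor]
  exact Limits.Pi.map_π (f := fun i : T.I => (R.obj s).obj (op (T.obj i)))
    (g := fun i : T.I => (R.obj s').obj (op (T.obj i)))
    (fun i => (R.map φ).app (op (T.obj i))) i

lemma termFunctor_map_π_apply {s s' : S} (φ : s ⟶ s') (i : T.I) (x : (termFunctor R T).obj s) :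
    (Pi.π (fun i : T.I => (R.obj s').obj (op (T.obj i))) i).hom (((termFunctor R T).map φ).hom x) =
      ((factorFunctor R T i).map φ).hom
        ((Pi.π (fun i : T.I => (R.obj s).obj (op (T.obj i))) i).hom x) :=
  ab_sq_app (termFunctor_map_π R T φ i) x

lemma term_ext {s : S} (x y : (termFunctor R T).obj s)
    (h : ∀ i, (Pi.π (fun i : T.I => (R.obj s).obj (op (T.obj i))) i).hom x =
      (Pi.π (fun i : T.I => (R.obj s).obj (op (T.obj i))) i).hom y) : x = y := by
  apply (Concrete.productEquiv (fun i : T.I => (R.obj s).obj (op (T.obj i)))).injective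
  funext i
  rw [Concrete.productEquiv_apply_apply, Concrete.productEquiv_apply_apply]
  exact h i

lemma term_exists {s : S} (y : ∀ i : T.I, (R.obj s).obj (op (T.obj i))) :
    ∃ x : (termFunctor R T).obj s,
      ∀ i, (Pi.π (fun i : T.I => (R.obj s).obj (op (T.obj i))) i).hom x = y i :=
  ⟨(Concrete.productEquiv (fun i : T.I => (R.obj s).obj (op (T.obj i)))).symm y,
    fun i => Concrete.productEquiv_symm_apply_π _ y i⟩

variable {I : Type w} [SmallCategory I] [IsFiltered I] [Finite T.I]

theorem preservesColimitsOfShape_termFunctor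
    (h : ∀ i : T.I, PreservesColimitsOfShape I (factorFunctor R T i)) :
    PreservesColimitsOfShape I (termFunctor R T) := by
  classical
  haveI : Fintype T.I := Fintype.ofFinite _
  constructor
  intro D
  constructor
  intro c hc
  have hci : ∀ i : T.I, IsColimit ((factorFunctor R T i).mapCocone c) :=
    fun i => isColimitOfPreserves _ hc
  refine ⟨ab_isColimitOfElementwise _ ?_ ?_⟩
  · -- surjectivity
    intro x
    choose j y hy using fun i : T.I => ab_exists_rep (hci i)
      ((Pi.π (fun i : T.I => (R.obj c.pt).obj (op (T.obj i))) i).hom x)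
    obtain ⟨k, hk⟩ := IsFiltered.sup_objs_exists (Finset.image j Finset.univ)
    have f : ∀ i, j i ⟶ k := fun i =>
      (hk (Finset.mem_image_of_mem j (Finset.mem_univ i))).some
    obtain ⟨z, hz⟩ := term_exists R T (s := D.obj k)
      (fun i => ((factorFunctor R T i).map (D.map (f i))).hom (y i))
    refine ⟨k, z, ?_⟩
    apply term_ext
    intro i
    change (Pi.π (fun i : T.I => (R.obj c.pt).obj (op (T.obj i))) i).hom
      (((termFunctor R T).map (c.ι.app k)).hom z) = _
    rw [termFunctor_map_π_apply, hz, ← hy i]
    have hw : (factorFunctor R T i).map (D.map (f i)) ≫ (factorFunctor R T i).map (c.ι.app k) =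
        (factorFunctor R T i).map (c.ι.app (j i)) := by
      rw [← Functor.map_comp, c.w]
    exact ab_tri_app hw (y i)
  · -- zero criterion
    intro j y hy
    have hy' : ∀ i : T.I, ∃ (k : I) (f : j ⟶ k), ((factorFunctor R T i).map (D.map f)).hom
        ((Pi.π (fun i : T.I => (R.obj (D.obj j)).obj (op (T.obj i))) i).hom y) = 0 := by
      intro i
      apply ab_eq_zero_stage (hci i)
      change ((factorFunctor R T i).map (c.ι.app j)).hom _ = 0
      rw [← termFunctor_map_π_apply]
      have : ((termFunctor R T).map (c.ι.app j)).hom y = 0 := hy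
      rw [this]
      exact map_zero _
    have key : ∀ s : Finset T.I, ∃ (k : I) (g : j ⟶ k), ∀ i ∈ s,
        ((factorFunctor R T i).map (D.map g)).hom
          ((Pi.π (fun i : T.I => (R.obj (D.obj j)).obj (op (T.obj i))) i).hom y) = 0 := by
      intro s
      induction s using Finset.induction_on with
      | empty => exact ⟨j, 𝟙 j, fun i hi => absurd hi (Finset.notMem_empty i)⟩
      | insert a s _ ih =>
        obtain ⟨k, g, hg⟩ := ih
        obtain ⟨ka, fa, hfa⟩ := hy' a
        let m := IsFiltered.max k ka
        let u : j ⟶ m := g ≫ IsFiltered.leftToMax k ka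
        let v : j ⟶ m := fa ≫ IsFiltered.rightToMax k ka
        let e := IsFiltered.coeq u v
        let he : m ⟶ e := IsFiltered.coeqHom u v
        have huv : u ≫ he = v ≫ he := IsFiltered.coeq_condition u v
        refine ⟨e, u ≫ he, ?_⟩
        intro i hi
        rcases Finset.mem_insert.mp hi with rfl | hi
        · rw [huv]
          have : (factorFunctor R T i).map (D.map fa) ≫
              (factorFunctor R T i).map (D.map (IsFiltered.rightToMax k ka ≫ he)) =
              (factorFunctor R T i).map (D.map (v ≫ he)) := by
            rw [← Functor.map_comp, ← Functor.map_comp, Category.assoc]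
          rw [← ab_tri_app this, hfa, map_zero]
        · have : (factorFunctor R T i).map (D.map g) ≫
              (factorFunctor R T i).map (D.map (IsFiltered.leftToMax k ka ≫ he)) =
              (factorFunctor R T i).map (D.map (u ≫ he)) := by
            rw [← Functor.map_comp, ← Functor.map_comp, Category.assoc]
          rw [← ab_tri_app this, hg i hi, map_zero]
    obtain ⟨k, g, hg⟩ := key Finset.univ
    refine ⟨k, g, ?_⟩
    apply term_ext
    intro i
    change (Pi.π (fun i : T.I => (R.obj (D.obj k)).obj (op (T.obj i))) i).hom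
      (((termFunctor R T).map (D.map g)).hom y) = _
    rw [termFunctor_map_π_apply, hg i (Finset.mem_univ i)]
    exact (map_zero _).symm

end Groth.Agent.Lib.Helper74.CechColim
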